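import Groth.Prelude.Def_W4c3ghconstell
import Groth.Agent.Comodule.SubStruct
import Groth.Agent.Comodule.Cosemi

/-!
# Isotypic bookkeeping for equivariant modules with a stability weight
-/

set_option autoImplicit false
set_option backward.isDefEq.respectTransparency false

universe u v w x

open TensorProduct WithConv W4c3ghconstell

noncomputable section

namespace Groth.Agent.GHLib

open Comodule

section Coalg

variable {k : Type u} [Field k] {A : Type v} [AddCommGroup A] [Module k A] [Coalgebra k A]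
variable {M : Type x} [AddCommGroup M] [Module k M] [HopfRep.Comod k A M]

theorem mem_isoComp_iff {D : Submodule k A} {v : M} :
    v ∈ isoComp M D ↔ ∀ φ : M →ₗ[k] k, coefMap (C := A) φ v ∈ D := by
  rw [isoComp, Submodule.mem_comap, mem_range_lTensor_iff]
  rfl

theorem isSubcomod_isoComp (D : SimpSub k A) : HopfRep.IsSubcomod (k := k) (A := A) (isoComp M D.1) := by
  refine isSubcomod_iff.2 fun f v hv => mem_isoComp_iff.2 fun φ => ?_
  rw [map_smul]
  exact isSubcomod_iff.1 (IsSubcoalg.isSubcomod (B := D.1) D.2.2.1) f _ (mem_isoComp_iff.1 hv φ)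

theorem exists_meet {N : Submodule k M} (hN : HopfRep.IsSubcomod (k := k) (A := A) N) (h0 : N ≠ ⊥) :
    ∃ D : SimpSub k A, N ⊓ isoComp M D.1 ≠ ⊥ := by
  have h0' : toDual N hN ≠ ⊥ := fun h => h0 (by
    rw [← restrictScalars_toDual hN, h, Submodule.restrictScalars_bot])
  obtain ⟨S, hS, hSs⟩ := exists_simple_le h0'
  let W : Submodule k M := S.restrictScalars k
  have hW : HopfRep.IsSubcomod (k := k) (A := A) W := isSubcomod_restrictScalars S
  letI := subComod W hW
  haveI : IsSimpleModule (WithConv (A →ₗ[k] k)) (toDual W hW) := hSs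
  haveI : IsSimpleModule (WithConv (A →ₗ[k] k)) W := IsSimpleModule.congr (R := WithConv (A →ₗ[k] k)) (N := toDual W hW) (by exact subEquiv W hW)
  let D : SimpSub k A := ⟨_, coef_simple (k := k) (C := A) (V := W)⟩
  refine ⟨D, fun h => ?_⟩
  haveI := IsSimpleModule.nontrivial (WithConv (A →ₗ[k] k)) W
  obtain ⟨⟨x, hx⟩, hx0⟩ := exists_ne (0 : W)
  refine hx0 (Subtype.ext ((Submodule.mem_bot k).1 (h ▸ ⟨hS hx, ?_⟩)))
  rw [isoComp, SetLike.mem_coe, Submodule.mem_comap, ← rTensor_subCoact W hW ⟨x, hx⟩]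
  obtain ⟨y, hy⟩ := coef_le_iff.1 (le_refl ((coef k A W).restrictScalars k)) ⟨x, hx⟩
  refine ⟨W.subtype.rTensor _ y, ?_⟩
  rw [← LinearMap.comp_apply, LinearMap.lTensor_comp_rTensor, ← LinearMap.rTensor_comp_lTensor, LinearMap.comp_apply, hy]
  rfl

end Coalg

section Weights

variable {k : Type u} [Field k] {A : Type v} [AddCommGroup A] [Module k A] [Coalgebra k A]
variable {R : Type w} [CommRing R] [Algebra k R]
variable {M : Type x} [AddCommGroup M] [Module k M] [Module R M] [IsScalarTower k R M] [HopfRep.Comod k A M]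
variable {h : SimpSub k A → ℕ} (hM : IsConstellation k A R M h)

include hM

theorem hilbAt_le (N : Submodule k M) (D : SimpSub k A) : hilbAt M N D ≤ h D := by
  haveI := (hM.2.2 D).1
  rw [← (hM.2.2 D).2]
  exact Submodule.finrank_mono inf_le_right

theorem hilbAt_top (D : SimpSub k A) : hilbAt M ⊤ D = h D := by
  rw [hilbAt, top_inf_eq]
  exact (hM.2.2 D).2

theorem hilbAt_mono {N N' : Submodule k M} (hle : N ≤ N') (D : SimpSub k A) : hilbAt M N D ≤ hilbAt M N' D := by
  haveI := (hM.2.2 D).1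
  haveI : Module.Finite k ↥(N' ⊓ isoComp M D.1) := Submodule.finiteDimensional_of_le inf_le_right
  exact Submodule.finrank_mono (inf_le_inf_right _ hle)

theorem isoComp_le_of_hilbAt {N : Submodule k M} {D : SimpSub k A} (he : hilbAt M N D = h D) : isoComp M D.1 ≤ N := by
  haveI := (hM.2.2 D).1
  have := Submodule.eq_of_le_of_finrank_eq (inf_le_right : N ⊓ isoComp M D.1 ≤ isoComp M D.1)
    (he.trans (hM.2.2 D).2.symm)
  rw [← this]
  exact inf_le_left

theorem eq_bot_of_hilbAt {N : Submodule k M} {D : SimpSub k A} (he : hilbAt M N D = 0) : N ⊓ isoComp M D.1 = ⊥ := by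
  haveI := (hM.2.2 D).1
  haveI : Module.Finite k ↥(N ⊓ isoComp M D.1) := Submodule.finiteDimensional_of_le inf_le_right
  exact Submodule.finrank_eq_zero.1 he

theorem eq_top_of_isoComp_le {G : Submodule R M} (hG : ∀ D : SimpSub k A, isoComp M D.1 ≤ G.restrictScalars k) :
    G = ⊤ := by
  have h1 : (⊤ : Submodule k M) ≤ G.restrictScalars k := hM.2.1 ▸ iSup_le hG
  exact eq_top_iff.2 fun x _ => h1 Submodule.mem_top

theorem summable_theta {θ : SimpSub k A → ℚ} (hs : Summable fun D => (θ D : ℝ) * (h D : ℝ)) (N : Submodule k M) :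
    Summable fun D => (θ D : ℝ) * (hilbAt M N D : ℝ) := by
  refine Summable.of_norm_bounded hs.norm fun D => ?_
  rw [norm_mul, norm_mul, Real.norm_natCast, Real.norm_natCast]
  exact mul_le_mul_of_nonneg_left (Nat.cast_le.2 (hilbAt_le hM N D)) (norm_nonneg _)

/-- Shrinking a subspace without touching the negative parts lowers the weight. -/
theorem theta_mono {θ : SimpSub k A → ℚ} (hs : Summable fun D => (θ D : ℝ) * (h D : ℝ)) {G N : Submodule k M}
    (hle : G ≤ N) (hneg : ∀ D, θ D < 0 → hilbAt M G D = hilbAt M N D) : theta M θ G ≤ theta M θ N := by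
  refine Summable.tsum_le_tsum (fun D => ?_) (summable_theta hM hs G) (summable_theta hM hs N)
  rcases lt_or_ge (θ D) 0 with hD | hD
  · rw [hneg D hD]
  · exact mul_le_mul_of_nonneg_left (Nat.cast_le.2 (hilbAt_mono hM hle D)) (Rat.cast_nonneg.2 hD)

/-- A subspace without negative parts has nonnegative weight, positive if it meets a positive part. -/
theorem theta_pos_of_neg {θ : SimpSub k A → ℚ} (hs : Summable fun D => (θ D : ℝ) * (h D : ℝ)) {N : Submodule k M}
    (hneg : ∀ D, θ D < 0 → hilbAt M N D = 0) :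
    0 ≤ theta M θ N ∧ ∀ D, 0 < θ D → hilbAt M N D ≠ 0 → 0 < theta M θ N := by
  have hnn : ∀ D, 0 ≤ (θ D : ℝ) * (hilbAt M N D : ℝ) := fun D => by
    rcases lt_or_ge (θ D) 0 with hD | hD
    · simp [hneg D hD]
    · exact mul_nonneg (Rat.cast_nonneg.2 hD) (Nat.cast_nonneg _)
  refine ⟨tsum_nonneg hnn, fun D hD hh => ?_⟩
  exact (summable_theta hM hs N).tsum_pos hnn D (mul_pos (Rat.cast_pos.2 hD) (Nat.cast_pos.2 (Nat.pos_of_ne_zero hh)))

theorem neg_part {θ : SimpSub k A → ℚ} {N : Submodule k M}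
    (hneg : ∀ D, θ D < 0 → isoComp M D.1 ≤ N) (D : SimpSub k A) (hD : θ D < 0) : hilbAt M N D = h D := by
  rw [hilbAt, inf_eq_right.2 (hneg D hD)]
  exact (hM.2.2 D).2

theorem theta_top (θ : SimpSub k A → ℚ) (hsum : HasSum (fun D => (θ D : ℝ) * (h D : ℝ)) 0) :
    theta M θ ⊤ = 0 := by
  rw [theta]
  simp_rw [hilbAt_top hM]
  exact hsum.tsum_eq

theorem eq_top_of_theta_nonneg {θ : SimpSub k A → ℚ} (hsum : HasSum (fun D => (θ D : ℝ) * (h D : ℝ)) 0)
    {G : Submodule R M} (hneg : ∀ D, θ D < 0 → isoComp M D.1 ≤ G.restrictScalars k) :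
    theta M θ (G.restrictScalars k) ≤ 0 ∧
      ((∀ D, θ D ≠ 0) → 0 ≤ theta M θ (G.restrictScalars k) → G = ⊤) := by
  have hs := hsum.summable
  have hterm : ∀ D, (θ D : ℝ) * (hilbAt M (G.restrictScalars k) D : ℝ) ≤ (θ D : ℝ) * (h D : ℝ) := fun D => by
    rcases lt_or_ge (θ D) 0 with hD | hD
    · rw [neg_part hM hneg D hD]
    · exact mul_le_mul_of_nonneg_left (Nat.cast_le.2 (hilbAt_le hM _ D)) (Rat.cast_nonneg.2 hD)
  refine ⟨hsum.tsum_eq ▸ Summable.tsum_le_tsum hterm (summable_theta hM hs _) hs, fun hθ h0 => ?_⟩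
  refine eq_top_of_isoComp_le hM fun D => isoComp_le_of_hilbAt hM ?_
  by_contra hne
  have hlt : (θ D : ℝ) * (hilbAt M (G.restrictScalars k) D : ℝ) < (θ D : ℝ) * (h D : ℝ) :=
    lt_of_le_of_ne (hterm D) fun he => hne (by exact_mod_cast mul_left_cancel₀ (Rat.cast_ne_zero.2 (hθ D)) he)
  have := Summable.tsum_lt_tsum hterm hlt (summable_theta hM hs _) hs
  rw [hsum.tsum_eq] at this
  exact absurd this (not_lt.2 h0)

theorem exists_neg {θ : SimpSub k A → ℚ} (hsum : HasSum (fun D => (θ D : ℝ) * (h D : ℝ)) 0)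
    (hne : ∃ D, θ D ≠ 0 ∧ h D ≠ 0) : ∃ D, θ D < 0 ∧ isoComp M D.1 ≠ ⊥ := by
  obtain ⟨D₁, hθ1, hh1⟩ := hne
  by_contra hno
  push Not at hno
  have hnn : ∀ D, 0 ≤ (θ D : ℝ) * (h D : ℝ) := fun D => by
    rcases lt_or_ge (θ D) 0 with hD | hD
    · have : h D = 0 := by
        rw [← (hM.2.2 D).2, hno D hD]
        exact finrank_bot k M
      simp [this]
    · exact mul_nonneg (Rat.cast_nonneg.2 hD) (Nat.cast_nonneg _)
  have := (hasSum_zero_iff_of_nonneg hnn).1 hsum
  exact mul_ne_zero (Rat.cast_ne_zero.2 hθ1) (Nat.cast_ne_zero.2 hh1) (congrFun this D₁)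

end Weights

section Hopf

variable {k : Type u} [Field k] {A : Type v} [CommRing A] [HopfAlgebra k A]
variable {R : Type w} [CommRing R] [Algebra k R] [HopfRep.Comod k A R]
variable {M : Type x} [AddCommGroup M] [Module k M] [Module R M] [IsScalarTower k R M]
  [HopfRep.Comod k A M] [TameAct.IsHopfMod k A R M]

omit [TameAct.IsHopfMod k A R M] in
theorem inf_le_genIn (S : Set (SimpSub k A)) (N : Submodule R M) {D : SimpSub k A} (hD : D ∈ S) :
    ∀ v ∈ N.restrictScalars k ⊓ isoComp M D.1, v ∈ genIn k A R M S N := fun v hv =>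
  Submodule.subset_span (Set.mem_iUnion₂.2 ⟨D, hD, hv⟩)

omit [TameAct.IsHopfMod k A R M] in
theorem genIn_le (S : Set (SimpSub k A)) (N : Submodule R M) : genIn k A R M S N ≤ N :=
  Submodule.span_le.2 (Set.iUnion₂_subset fun _ _ v hv => hv.1)

omit [TameAct.IsHopfMod k A R M] in
theorem genIn_genIn (S : Set (SimpSub k A)) (N : Submodule R M) :
    genIn k A R M S (genIn k A R M S N) = genIn k A R M S N :=
  le_antisymm (genIn_le S _) (Submodule.span_le.2 (Set.iUnion₂_subset fun D hD v hv =>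
    inf_le_genIn S _ hD v ⟨inf_le_genIn S N hD v hv, hv.2⟩))

theorem isSubcomod_genIn (S : Set (SimpSub k A)) {N : Submodule R M}
    (hN : HopfRep.IsSubcomod (k := k) (A := A) (N.restrictScalars k)) :
    HopfRep.IsSubcomod (k := k) (A := A) ((genIn k A R M S N).restrictScalars k) := by
  set G := (genIn k A R M S N).restrictScalars k with hG
  intro v hv
  change v ∈ genIn k A R M S N at hv
  induction hv using Submodule.span_induction with
  | mem y hy =>
    obtain ⟨D, hD, hy⟩ := Set.mem_iUnion₂.1 hy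
    refine mem_range_rTensor_iff.2 fun f => inf_le_genIn S N hD _ ⟨?_, ?_⟩
    · exact isSubcomod_iff.1 hN (toConv f) y hy.1
    · exact isSubcomod_iff.1 (isSubcomod_isoComp D) (toConv f) y hy.2
  | zero => rw [map_zero]; exact Submodule.zero_mem _
  | add y z _ _ h1 h2 => rw [map_add]; exact Submodule.add_mem _ h1 h2
  | smul r y _ hy =>
    obtain ⟨z, hz⟩ := hy
    rw [TameAct.IsHopfMod.coact_smul, ← hz]
    generalize HopfRep.Comod.coact (k := k) (A := A) r = c
    induction c with
    | zero => simp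
    | add a b ha hb => rw [map_add, LinearMap.add_apply]; exact Submodule.add_mem _ ha hb
    | tmul b a =>
      clear hz
      induction z with
      | zero => simp
      | add p q hp hq => rw [map_add, map_add]; exact Submodule.add_mem _ hp hq
      | tmul g a' =>
        refine ⟨⟨b • (g : M), (genIn k A R M S N).smul_mem b g.2⟩ ⊗ₜ (a * a'), ?_⟩
        simp

end Hopf

end Groth.Agent.GHLib
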